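import Cfsg.Agent.Lib.KnownB.Mult.M12.Cover

/-! Generated certificates for the multiplier of the double cover of `M12`. -/

set_option autoImplicit false
set_option maxRecDepth 100000

namespace CfsgLib.KnownB.Mult.M12

/-- certificate at 2 -/
def cert2 : Cert (ℕ × ℕ) where
  n := 7
  σ := [(236546737144500322003312158969956387, 385107837336954692068093920515557606), (807699012950330119388254337253974537, 943908624364840417719188824956522990), (464274004878065387188853236227901480, 984232181438043229067553309009742252), (487192929853287148330978743794541776, 943952992098252389642328886091263668), (921212402578761221385967946769638600, 726923195192209423524764715869089196), (222848521963869917746636076779308099, 984444287608495032740356792000876743), (222848521963869917746636076779308099, 944243245709875909591527545027826918)]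
  rules := [([0, 0], []),
    ([1, 1], [5]),
    ([2, 2], []),
    ([3, 3], [5]),
    ([4, 4], [5]),
    ([5, 5], []),
    ([6, 6], []),
    ([1, 0], [0, 1]),
    ([2, 0], [0, 2, 3, 4, 5]),
    ([3, 0], [0, 3, 6]),
    ([4, 0], [0, 4, 6]),
    ([5, 0], [0, 5]),
    ([6, 0], [0, 6]),
    ([2, 1], [1, 2, 3, 5, 6]),
    ([3, 1], [1, 3, 5]),
    ([4, 1], [1, 4, 5, 6]),
    ([5, 1], [1, 5]),
    ([6, 1], [1, 6]),
    ([3, 2], [2, 3, 5]),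
    ([4, 2], [2, 4, 5]),
    ([5, 2], [2, 5]),
    ([6, 2], [2, 6]),
    ([4, 3], [3, 4]),
    ([5, 3], [3, 5]),
    ([6, 3], [3, 6]),
    ([5, 4], [4, 5]),
    ([6, 4], [4, 6]),
    ([6, 5], [5, 6])]
  conjs := [((487370663425063340832538503734741376, 470406244901339367617463072633438209), [0], [2, 3, 5, 6]),
    ((487370663425063340832538503734741376, 470406244901339367617463072633438209), [2], [2, 5]),
    ((487370663425063340832538503734741376, 470406244901339367617463072633438209), [3], [0, 2]),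
    ((233233386906768391987032901617288256, 813182319624935184505976559738458144), [0], [3, 4, 5]),
    ((233233386906768391987032901617288256, 813182319624935184505976559738458144), [1], [3, 5, 6]),
    ((233233386906768391987032901617288256, 813182319624935184505976559738458144), [3], [1, 5, 6]),
    ((233233386906768391987032901617288256, 813182319624935184505976559738458144), [4], [0, 1, 5, 6])]
  rows := [(.ovl [2] 0 [], [0, 0, 0, 1, 1, 0, 1, 0, 0, 1, 1, 1, 0, 0, 0, 0, 0, 0, 0, 0, 0, 0, 1, 1, 0, 1, 1]),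
    (.ovl [3] 0 [], [0, 0, 0, 0, 0, 0, 1, 0, 0, 0, 0, 0, 1]),
    (.ovl [1] 1 [], [0, 0, 0, 0, 0, 0, 0, 0, 0, 0, 0, 0, 0, 0, 0, 0, 1]),
    (.ovl [2] 1 [], [0, 0, 0, 1, 0, 0, 1, 0, 0, 0, 0, 0, 0, 0, 1, 0, 1, 1, 0, 0, 1, 0, 0, 1, 1, 0, 0, 0]),
    (.ovl [3] 1 [], [0, 0, 0, 0, 0, 1, 0, 0, 0, 0, 0, 0, 0, 0, 0, 0, 1, 0, 0, 0, 0, 0, 0, 1]),
    (.ovl [4] 1 [], [0, 0, 0, 0, 0, 1, 1, 0, 0, 0, 0, 0, 0, 0, 0, 0, 1, 1, 0, 0, 0, 0, 0, 0, 0, 1, 0, 1]),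
    (.ovl [6] 1 [], [0, 0, 0, 0, 0, 0, 0, 0, 0, 0, 0, 0, 0, 0, 0, 0, 0, 0, 0, 0, 0, 0, 0, 0, 0, 0, 0, 1]),
    (.ovl [3] 2 [], [0, 0, 0, 0, 0, 1, 0, 0, 0, 0, 0, 0, 0, 0, 0, 0, 0, 0, 0, 0, 1]),
    (.ovl [3] 3 [], [0, 0, 0, 0, 0, 0, 0, 0, 0, 0, 0, 0, 0, 0, 0, 0, 0, 0, 0, 0, 0, 0, 0, 1]),
    (.ovl [4] 3 [], [0, 0, 0, 0, 0, 0, 0, 0, 0, 0, 0, 0, 0, 0, 0, 0, 0, 0, 0, 0, 0, 0, 0, 0, 0, 1]),
    (.ovl [1] 7 [], [0, 0, 0, 0, 0, 0, 0, 0, 0, 0, 0, 1]),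
    (.ovl [2] 7 [], [0, 0, 0, 0, 0, 1, 0, 0, 0, 1, 0, 1, 1, 0, 1, 1, 1, 0, 0, 0, 0, 0, 1, 0, 1, 0, 1, 1]),
    (.ovl [3] 7 [], [0, 0, 0, 0, 0, 0, 0, 0, 0, 0, 0, 1, 0, 0, 0, 0, 0, 1, 0, 0, 0, 0, 0, 0, 0, 0, 0, 1]),
    (.ovl [2] 8 [], [0, 0, 0, 1, 1, 1, 0, 0, 0, 0, 0, 0, 0, 0, 0, 0, 0, 0, 1, 1, 1, 0, 1, 1, 0, 0]),
    (.ovl [3] 8 [], [0, 0, 0, 0, 0, 0, 0, 0, 0, 0, 0, 1, 0, 0, 0, 0, 0, 0, 0, 0, 0, 1, 1, 0, 1, 1, 1, 0]),
    (.ovl [6] 8 [], [0, 0, 0, 0, 0, 0, 0, 0, 0, 0, 0, 0, 0, 0, 0, 0, 0, 0, 0, 0, 0, 0, 0, 0, 1, 0, 1, 1]),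
    (.ovl [3] 9 [], [0, 0, 0, 0, 0, 0, 1, 0, 0, 0, 0, 1, 0, 0, 0, 0, 0, 0, 0, 0, 0, 0, 0, 0, 1]),
    (.ovl [2] 13 [], [0, 0, 0, 1, 0, 0, 1, 0, 0, 0, 0, 0, 0, 0, 0, 0, 0, 0, 1, 0, 1, 1, 0, 0, 1, 0, 0, 1]),
    (.cnj 0 [0, 0] [], [1, 0, 1, 1, 0, 0, 1, 0, 0, 0, 0, 0, 0, 0, 0, 0, 0, 0, 1, 0, 1, 1, 0, 0, 1, 0, 0, 1, 0]),
    (.cnj 0 [2, 1, 2] [1], [1, 0, 1, 1, 0, 1, 0, 0, 0, 0, 0, 1, 0, 0, 0, 0, 0, 0, 1, 0, 1, 0, 0, 1, 0, 0, 0, 0, 0, 0, 0]),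
    (.cnj 0 [2, 2, 0] [0, 2, 2], [0, 0, 0, 0, 0, 1, 1, 0, 0, 1, 1, 0, 1, 0, 0, 0, 0, 0, 0, 0, 1, 1, 0, 0, 0, 0, 0, 1, 0, 0, 0]),
    (.cnj 3 [3, 3] [], [1, 0, 0, 1, 1, 0, 0, 0, 0, 0, 0, 0, 0, 0, 0, 0, 0, 0, 0, 0, 0, 0, 1, 1, 0, 1, 0, 0, 0, 0, 0, 0]),
    (.cnj 3 [4, 3] [3, 4], [0, 0, 0, 0, 0, 0, 0, 1, 0, 0, 0, 0, 0, 0, 0, 0, 0, 0, 0, 0, 0, 0, 1, 0, 1, 1, 1, 1, 0, 0, 0, 0, 0]),
    (.cnj 3 [4, 5, 4] [5], [0, 1, 0, 1, 0, 1, 1, 0, 0, 0, 0, 0, 0, 0, 0, 0, 1, 1, 0, 0, 0, 0, 0, 0, 0, 0, 0, 1, 0, 0, 0, 0, 0, 0])]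
  lam := [[], [], [], [0, 1, 0, 0, 0, 0, 0, 0, 0, 1, 0, 0, 0, 1], [0, 0, 0, 0, 0, 0, 0, 0, 1, 1, 0, 0, 0, 1], [0, 1], [0, 0, 0, 0, 0, 0, 0, 0, 0, 1]]
  combos := [[(0, 1), (1, 1), (2, 1), (4, 1), (6, 1), (7, 1), (15, 1), (18, 1), (19, 1), (20, 1), (21, 1)],
    [],
    [(0, 1), (1, 1), (2, 1), (4, 1), (6, 1), (7, 1), (15, 1), (17, 1), (19, 1), (20, 1), (21, 1)],
    [(5, 1), (9, 1), (23, 1)],
    [(0, 1), (1, 1), (5, 1), (6, 1), (7, 1), (8, 1), (9, 1), (10, 1), (14, 1), (16, 1), (20, 1), (23, 1)],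
    [(2, 1), (4, 1), (8, 1)],
    [(4, 1), (5, 1), (8, 1), (9, 1), (10, 1), (12, 1)],
    [(2, 1), (4, 1), (10, 1), (14, 1), (16, 1), (18, 1), (19, 1), (22, 1)],
    [],
    [],
    [(1, 1), (2, 1), (4, 1), (7, 1), (16, 1), (18, 1), (19, 1), (20, 1)],
    [(10, 1)],
    [(1, 1), (4, 1), (5, 1), (8, 1), (9, 1), (10, 1), (12, 1)],
    [],
    [(3, 1), (4, 1), (5, 1), (6, 1), (7, 1), (9, 1), (12, 1), (16, 1), (23, 1)],
    [(1, 1), (2, 1), (3, 1), (6, 1), (7, 1), (9, 1), (10, 1), (11, 1), (14, 1), (18, 1), (19, 1), (23, 1)],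
    [(2, 1)],
    [(6, 1), (10, 1), (12, 1)],
    [(5, 1), (7, 1), (8, 1), (9, 1), (10, 1), (17, 1), (18, 1), (19, 1), (23, 1)],
    [(0, 1), (1, 1), (2, 1), (4, 1), (5, 1), (6, 1), (7, 1), (8, 1), (10, 1), (13, 1), (15, 1), (17, 1), (20, 1), (23, 1)],
    [(2, 1), (4, 1), (7, 1), (8, 1)],
    [(2, 1), (4, 1), (6, 1), (16, 1), (18, 1), (19, 1)],
    [(2, 1), (4, 1), (9, 1), (10, 1), (14, 1), (15, 1), (16, 1), (18, 1), (19, 1)],
    [(8, 1)],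
    [(4, 1), (5, 1), (8, 1), (9, 1), (12, 1), (16, 1)],
    [(9, 1)],
    [(4, 1), (5, 1), (6, 1), (8, 1), (9, 1), (12, 1), (15, 1), (16, 1)],
    [(6, 1)]]

theorem cert2_gen : cert2.genOK coverCode = true := by decide +kernel
theorem cert2_rel : cert2.relOK coverCode = true := by decide +kernel
theorem cert2_pc : cert2.pcOK 2 = true := by decide +kernel
theorem cert2_indep : cert2.indepOK coverCode 2 = true := by decide +kernel
theorem cert2_rows : cert2.rowsOK coverCode 2 = true := by decide +kernel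
theorem cert2_target : cert2.targetOK 2 = true := by decide +kernel

theorem cert2_valid : cert2.Valid coverCode 2 :=
  ⟨cert2_gen, cert2_rel, cert2_pc, cert2_indep, cert2_rows, cert2_target⟩

/-- certificate at 3 -/
def cert3 : Cert (ℕ × ℕ) where
  n := 3
  σ := [(978246409309260516382457348209641731, 344867819490605339271939493772801223), (236685065555733536018449047254840512, 127547692583138338224385116533532704), (973987539224046515479247862101023008, 344198500612423368553616605499046944)]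
  rules := [([0, 0, 0], []),
    ([1, 1, 1], []),
    ([2, 2, 2], []),
    ([1, 0], [0, 1, 2, 2]),
    ([2, 0], [0, 2]),
    ([2, 1], [1, 2])]
  conjs := [((980742529709899638344231302134632704, 173566271089184080023049533345148929), [0], [0, 0, 2]),
    ((980742529709899638344231302134632704, 173566271089184080023049533345148929), [1], [1, 1])]
  rows := [(.ovl [1] 0 [], [0, 0, 2, 0, 0]),
    (.cnj 0 [0, 0, 0] [], [1, 0, 1, 0, 0, 0, 0]),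
    (.cnj 0 [1, 1, 1] [], [0, 1, 0, 0, 0, 0, 0, 0]),
    (.cnj 0 [1, 0, 0, 1] [0, 1, 1, 0], [0, 0, 1, 0, 2, 2, 0, 0]),
    (.cnj 0 [1, 0, 1, 0] [0, 0, 1, 1], [0, 0, 2, 0, 2, 1, 0, 0])]
  lam := [[], [], [0, 0, 0, 2]]
  combos := [[(0, 2), (1, 2)],
    [(2, 2)],
    [(0, 1)],
    [],
    [(3, 2), (4, 2)],
    [(0, 1), (3, 2), (4, 1)]]

theorem cert3_gen : cert3.genOK coverCode = true := by decide +kernel
theorem cert3_rel : cert3.relOK coverCode = true := by decide +kernel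
theorem cert3_pc : cert3.pcOK 3 = true := by decide +kernel
theorem cert3_indep : cert3.indepOK coverCode 3 = true := by decide +kernel
theorem cert3_rows : cert3.rowsOK coverCode 3 = true := by decide +kernel
theorem cert3_target : cert3.targetOK 3 = true := by decide +kernel

theorem cert3_valid : cert3.Valid coverCode 3 :=
  ⟨cert3_gen, cert3_rel, cert3_pc, cert3_indep, cert3_rows, cert3_target⟩

end CfsgLib.KnownB.Mult.M12
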