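import Cfsg.Agent.Lib.KnownB.Mult.Main
import Cfsg.Agent.Lib.KnownB.Mult.Chunks
import Cfsg.Agent.Lib.Schur.Lift
import Cfsg.Agent.Lib.KnownA.MathieuOut.M12

/-!
The double cover of `M12`: pairs of an element and a signed permutation of twelve coordinates lying
over it and preserving a ternary Golay code.
-/

set_option autoImplicit false
set_option maxRecDepth 100000
set_option Elab.async false

namespace CfsgLib.KnownB.Mult.M12

open Cfsg CfsgLib.Spor CfsgLib.MathieuOut

/-- points of the dodecad in coordinate order -/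
def dList : List ℕ := [0, 1, 2, 3, 4, 6, 8, 9, 12, 13, 16, 18]

/-- basis of the ternary code on signed coordinates -/
def fList : List (List ℕ) := [[1, 2, 0, 0, 0, 0, 0, 0, 0, 0, 0, 0, 1, 2, 1, 2, 1, 2, 1, 2, 1, 2, 0, 0], [0, 0, 1, 2, 0, 0, 0, 0, 0, 0, 0, 0, 1, 2, 2, 1, 2, 1, 0, 0, 1, 2, 1, 2], [0, 0, 0, 0, 1, 2, 0, 0, 0, 0, 0, 0, 1, 2, 1, 2, 2, 1, 2, 1, 0, 0, 2, 1], [0, 0, 0, 0, 0, 0, 1, 2, 0, 0, 0, 0, 0, 0, 1, 2, 2, 1, 1, 2, 2, 1, 1, 2], [0, 0, 0, 0, 0, 0, 0, 0, 1, 2, 0, 0, 1, 2, 0, 0, 1, 2, 2, 1, 2, 1, 1, 2], [0, 0, 0, 0, 0, 0, 0, 0, 0, 0, 1, 2, 1, 2, 2, 1, 0, 0, 1, 2, 2, 1, 2, 1]]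

/-- lifts of the generators of `M12` -/
def genList : List (ℕ × ℕ) := [(934266910557044308410406725347291272, 898475334924124418593821088200040845), (892212480004352295115462338729320640, 813181463692037889670488617322359809), (649633314296629252857477569367258371, 727341318068815276627248482812835046)]

/-- two elements with commuting images -/
def pairX : ℕ × ℕ := (649633314296629252857477569367258371, 727341318068815276627248482812835046)

/-- two elements with commuting images -/
def pairY : ℕ × ℕ := (850673972086836320346514055714097668, 213009094924718517271846655119480104)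

/-- the point of a signed coordinate -/
def dOf (t : ℕ) : ℕ := dList.getD (t / 2) 0

/-- a basis word -/
def fVec (k : ℕ) : GolayPt → ZMod 3 := fun q => ((fList.getD k []).getD (idx q) 0 : ZMod 3)

/-- the code -/
def code3 : Submodule (ZMod 3) (GolayPt → ZMod 3) :=
  Submodule.span (ZMod 3) (Set.range fun k : Fin 6 => fVec k)

/-- `h` lies over `g` -/
def Compat (g h : Equiv.Perm GolayPt) : Prop :=
  ∀ t < 24, g (pt (dOf t)) = pt (dOf (idx (h (pt t))))

/-- `h` preserves the code -/
def Pres (h : Equiv.Perm GolayPt) : Prop := ∀ f ∈ code3, (fun q => f (h q)) ∈ code3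

theorem dOf_lt : ∀ t < 24, dOf t < 24 := by decide

theorem dOf_inj : ∀ t < 24, ∀ t' < 24, dOf t = dOf t' → t / 2 = t' / 2 := by decide +kernel

abbrev Ambient : Type := ↥(stabG dodMasks []) × Equiv.Perm GolayPt

/-- pairs over each other preserving the code, as a monoid -/
def coverM : Submonoid Ambient where
  carrier := {x | Compat x.1 x.2 ∧ Pres x.2}
  one_mem' := ⟨fun t ht => by simp [idx_pt ht], fun f hf => hf⟩
  mul_mem' := by
    rintro ⟨g, h⟩ ⟨g', h'⟩ ⟨c, q⟩ ⟨c', q'⟩
    refine ⟨fun t ht => ?_, fun f hf => ?_⟩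
    · have e := c _ (idx_lt (h' (pt t)))
      rw [pt_idx] at e
      show (g : Equiv.Perm GolayPt) ((g' : Equiv.Perm GolayPt) (pt (dOf t))) = _
      rw [c' t ht, e]
      rfl
    · exact q' _ (q f hf)

/-- the double cover -/
def cover : Subgroup Ambient :=
  { coverM with
    inv_mem' := by
      intro x hx
      have h : x⁻¹ = x ^ (orderOf x - 1) := by
        rw [inv_eq_iff_mul_eq_one, ← pow_succ', Nat.sub_add_cancel (orderOf_pos x), pow_orderOf_eq_one]
      rw [h]
      exact coverM.pow_mem hx _ }

theorem mem_cover {x : Ambient} : x ∈ cover ↔ Compat x.1 x.2 ∧ Pres x.2 := Iff.rfl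

/-- coordinates of a combination of the basis read from six coordinates -/
def combAt (v : List ℕ) (t : ℕ) : ℕ :=
  ((List.range 6).map fun j => v.getD (2 * j) 0 * (fList.getD j []).getD t 0).sum % 3

/-- images of the basis words lie in the code -/
def presOK (a : ℕ) : Bool :=
  (List.range 6).all fun k =>
    let v := (List.range 24).map fun t => (fList.getD k []).getD (getP a t) 0
    (List.range 24).all fun t => Nat.beq (combAt v t) (v.getD t 0)

/-- `Compat` on codes -/
def compatOK (a b : ℕ) : Bool :=
  (List.range 24).all fun t => Nat.beq (getP a (dOf t)) (dOf (getP b t))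

theorem basis_values : ∀ k : Fin 6, ∀ t : Fin 24, fVec k (pt t) =
    ∑ j : Fin 6, fVec k (pt (2 * j)) * fVec j (pt t) := by decide +kernel

theorem code3_eq {f : GolayPt → ZMod 3} (hf : f ∈ code3) {t : ℕ} (ht : t < 24) :
    f (pt t) = ∑ j : Fin 6, f (pt (2 * j)) * fVec j (pt t) := by
  induction hf using Submodule.span_induction with
  | mem x hx => obtain ⟨k, rfl⟩ := hx; exact basis_values k ⟨t, ht⟩
  | zero => simp
  | add x y _ _ hx hy => simp only [Pi.add_apply, add_mul, Finset.sum_add_distrib, hx, hy]
  | smul a x _ hx => simp only [Pi.smul_apply, smul_eq_mul, mul_assoc, ← Finset.mul_sum, hx]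

theorem flist_small : ∀ k < 6, ∀ t < 24, (fList.getD k []).getD t 0 < 3 := by decide +kernel

theorem combAt_spec {h : Equiv.Perm GolayPt} {a : ℕ} (ha : Rep h a) (k : Fin 6) {t : ℕ}
    (ht : t < 24) :
    (combAt ((List.range 24).map fun t => (fList.getD k []).getD (getP a t) 0) t : ZMod 3) =
      ∑ j : Fin 6, fVec k (h (pt (2 * j))) * fVec j (pt t) := by
  rw [combAt, ZMod.natCast_mod, Nat.cast_list_sum, List.map_map, ← List.sum_toFinset _
    List.nodup_range, List.toFinset_range, ← Fin.sum_univ_eq_sum_range
    (fun j => _) 6]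
  refine Finset.sum_congr rfl fun j _ => ?_
  have hj : 2 * (j : ℕ) < 24 := by omega
  simp only [Function.comp_apply, Nat.cast_mul, fVec, idx_pt ht]
  rw [List.getD_eq_getElem _ _ (by simpa using hj), List.getElem_map, List.getElem_range, ha _ hj]

theorem presOK_iff {h : Equiv.Perm GolayPt} {a : ℕ} (ha : Rep h a) : presOK a = true ↔ Pres h := by
  simp only [presOK, List.all_eq_true, List.mem_range, Nat.beq_eq]
  constructor
  · intro hok f hf
    have key : ∀ k : Fin 6, (fun q => fVec k (h q)) ∈ code3 := by
      intro k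
      have e : (fun q => fVec k (h q)) =
          ∑ j : Fin 6, fVec k (h (pt (2 * j))) • fVec j := by
        funext q
        have := congrArg (Nat.cast (R := ZMod 3)) (hok k k.2 (idx q) (idx_lt q))
        rw [combAt_spec ha k (idx_lt q), pt_idx] at this
        rw [Finset.sum_apply]
        simp only [Pi.smul_apply, smul_eq_mul]
        rw [this, List.getD_eq_getElem _ _ (by simp [idx_lt]), List.getElem_map, List.getElem_range,
          ha.get]
        rfl
      rw [e]
      exact sum_mem fun j _ => Submodule.smul_mem _ _ (Submodule.subset_span ⟨j, rfl⟩)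
    induction hf using Submodule.span_induction with
    | mem x hx => obtain ⟨k, rfl⟩ := hx; exact key k
    | zero => exact zero_mem _
    | add x y _ _ hx hy => exact add_mem hx hy
    | smul c x _ hx => exact Submodule.smul_mem _ c hx
  · intro hp k hk t ht
    have hmem := hp (fVec k) (Submodule.subset_span ⟨⟨k, hk⟩, rfl⟩)
    have e := code3_eq hmem ht
    have h2 := combAt_spec ha ⟨k, hk⟩ ht
    beta_reduce at e h2
    rw [← e] at h2
    have hlt : ∀ s < 24, ((List.range 24).map fun t => (fList.getD k []).getD (getP a t) 0).getD s 0 < 3 := by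
      intro s hs
      rw [List.getD_eq_getElem _ _ (by simpa using hs), List.getElem_map, List.getElem_range]
      exact flist_small k hk _ (by rw [ha s hs]; exact idx_lt _)
    have h3 : ((((List.range 24).map fun t => (fList.getD k []).getD (getP a t) 0).getD t 0 : ℕ) : ZMod 3) =
        fVec k (h (pt t)) := by
      rw [List.getD_eq_getElem _ _ (by simpa using ht), List.getElem_map, List.getElem_range, fVec, ha t ht]
    rw [← h3, ZMod.natCast_eq_natCast_iff', Nat.mod_eq_of_lt (hlt t ht)] at h2
    exact (Nat.mod_eq_of_lt (Nat.mod_lt _ (by norm_num))).symm.trans h2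

theorem compatOK_spec {g h : Equiv.Perm GolayPt} {a b : ℕ} (ha : Rep g a) (hb : Rep h b)
    (hok : compatOK a b = true) : Compat g h := fun t ht => by
  simp only [compatOK, List.all_eq_true, List.mem_range, Nat.beq_eq] at hok
  have := hok t ht
  rw [ha _ (dOf_lt t ht), hb t ht] at this
  rw [← this, pt_idx]

/-- the code of a pair -/
def okPair (x : ℕ × ℕ) : Bool :=
  inStabP dodMasks [] x.1 && isPermP x.2 && compatOK x.1 x.2 && presOK x.2

theorem exists_pair {x : ℕ × ℕ} (h : okPair x = true) :
    ∃ c : cover, Rep ((c : Ambient).1 : Equiv.Perm GolayPt) x.1 ∧ Rep (c : Ambient).2 x.2 := by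
  simp only [okPair, Bool.and_eq_true] at h
  obtain ⟨σ, hσ, hr⟩ := repIn_of_inStabP (prev := []) (by simp) h.1.1.1
  obtain ⟨τ, hτ⟩ := exists_rep h.1.1.2
  exact ⟨⟨(⟨σ, hσ⟩, τ), compatOK_spec hr hτ h.1.2, (presOK_iff hτ).1 h.2⟩, hr, hτ⟩

/-- codes for the double cover -/
def coverCode : Code cover (ℕ × ℕ) where
  rep c x := Rep ((c : Ambient).1 : Equiv.Perm GolayPt) x.1 ∧ Rep (c : Ambient).2 x.2
  mul x y := (compP x.1 y.1, compP x.2 y.2)
  one := (idP, idP)
  eqc x y := eqP x.1 y.1 && eqP x.2 y.2
  okc := okPair
  rep_mul h h' := ⟨h.1.mul h'.1, h.2.mul h'.2⟩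
  rep_one := ⟨rep_idP, rep_idP⟩
  eq_iff {a b x y} h h' := by
    rw [Bool.and_eq_true, eqP_iff h.1 h'.1, eqP_iff h.2 h'.2]
    exact ⟨fun e => Subtype.ext (Prod.ext (Subtype.ext e.1) e.2), fun e => by rw [e]; exact ⟨rfl, rfl⟩⟩
  exists_rep := exists_pair

/-- the projection -/
def coverMap : cover →* ↥(stabG dodMasks []) := (MonoidHom.fst _ _).comp cover.subtype

theorem gen_checks : (genList.all okPair && okPair pairX && okPair pairY) = true := by decide +kernel

theorem gen_fst : (genList.map Prod.fst == [M12Cert.genA, M12Cert.genB, M12Cert.genC]) = true := by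
  decide +kernel

theorem natCard_stab : Nat.card (stabG dodMasks []) = 95040 :=
  (congrArg (fun H : Subgroup (Equiv.Perm GolayPt) => Nat.card H) stabG_M12).trans natCard_M12

theorem coverMap_surjective : Function.Surjective coverMap := by
  let K : Subgroup (Equiv.Perm GolayPt) := coverMap.range.map (stabG dodMasks []).subtype
  have hK : K = stabG dodMasks [] := by
    refine eq_of_levels (Subgroup.map_subtype_le _) (gens := [M12Cert.genA, M12Cert.genB, M12Cert.genC])
      ?_ M12Cert.rows (by decide +kernel) M12Cert.lev (by decide +kernel) (by decide +kernel) ?_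
    · intro a ha
      rw [← eq_of_beq gen_fst] at ha
      obtain ⟨x, hx, rfl⟩ := List.mem_map.1 ha
      have h := gen_checks
      simp only [Bool.and_eq_true, List.all_eq_true] at h
      obtain ⟨c, hc, -⟩ := exists_pair (h.1.1 x hx)
      exact ⟨_, ⟨coverMap c, ⟨c, rfl⟩, rfl⟩, hc⟩
    · rw [natCard_stab]
      decide +kernel
  intro g
  obtain ⟨g', ⟨c, rfl⟩, he⟩ : (g : Equiv.Perm GolayPt) ∈ K := hK.symm ▸ g.2
  exact ⟨c, Subtype.ext he⟩

/-- the sign change with a mask -/
def maskP (m : ℕ) : ℕ :=
  packL ((List.range 24).map fun t => if m.testBit (t / 2) then t ^^^ 1 else t)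

/-- the support of a basis word, as a mask of pairs -/
def supp (k : ℕ) : ℕ :=
  ((List.range 12).map fun i =>
    bif Nat.beq ((fList.getD k []).getD (2 * i) 0) 0 then 0 else 2 ^ i).sum

/-- a basis word after a sign change -/
def signed (k m : ℕ) : List ℕ :=
  (List.range 24).map fun t => (fList.getD k []).getD (bif m.testBit (t / 2) then t ^^^ 1 else t) 0

/-- a signed basis word lies in the code -/
def rowOK (k m : ℕ) : Bool :=
  (List.range 24).all fun t => Nat.beq (combAt (signed k m) t) ((signed k m).getD t 0)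

theorem flip_lt : ∀ t < 24, t ^^^ 1 < 24 := by decide

theorem presOK_mask {m : ℕ} : presOK (maskP m) = (List.range 6).all fun k => rowOK k m := by
  have e : ∀ k, ((List.range 24).map fun t => (fList.getD k []).getD (getP (maskP m) t) 0) = signed k m := by
    intro k
    refine List.map_congr_left fun t ht => ?_
    have ht' : t < 24 := List.mem_range.1 ht
    rw [maskP, getP_packL _ _ (by simpa using ht'), List.getElem_map, List.getElem_range]
    have := flip_lt t ht'
    cases m.testBit (t / 2)
    · simp [Nat.mod_eq_of_lt (show t < 32 by omega)]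
    · simp [Nat.mod_eq_of_lt (show t ^^^ 1 < 32 by omega)]
  simp only [presOK, rowOK, e]

theorem supp_spec : ∀ k < 6, ∀ t < 24, (supp k).testBit (t / 2) = true ∨
    (fList.getD k []).getD (t ^^^ 1) 0 = (fList.getD k []).getD t 0 := by decide +kernel

theorem rowOK_and {k : ℕ} (hk : k < 6) (m : ℕ) : rowOK k m = rowOK k (m &&& supp k) := by
  have e : signed k m = signed k (m &&& supp k) := by
    refine List.map_congr_left fun t ht => ?_
    rw [Nat.testBit_and]
    rcases supp_spec k hk t (List.mem_range.1 ht) with h | h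
    · rw [h, Bool.and_true]
    · cases m.testBit (t / 2) <;> cases (supp k).testBit (t / 2) <;>
        simp only [Bool.true_and, Bool.false_and, cond_true, cond_false, h]
  simp only [rowOK, e]

/-- on the support only the trivial sign changes are allowed -/
def rowF (k m : ℕ) : Bool :=
  !Nat.beq (m &&& supp k) m || Nat.beq m 0 || Nat.beq m (supp k) || !rowOK k m

/-- a mask constant on every support is trivial -/
def constF (m : ℕ) : Bool :=
  Nat.beq m 0 || Nat.beq m 4095 || (List.range 6).any fun k =>
    !(Nat.beq (m &&& supp k) 0 || Nat.beq (m &&& supp k) (supp k))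

theorem row0 : (List.range 4096).all (rowF 0) = true := by decide +kernel
theorem row1 : (List.range 4096).all (rowF 1) = true := by decide +kernel
theorem row2 : (List.range 4096).all (rowF 2) = true := by decide +kernel
theorem row3 : (List.range 4096).all (rowF 3) = true := by decide +kernel
theorem row4 : (List.range 4096).all (rowF 4) = true := by decide +kernel
theorem row5 : (List.range 4096).all (rowF 5) = true := by decide +kernel
theorem const_ok : (List.range 4096).all constF = true := by decide +kernel

/-- the check of a mask -/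
def maskF (m : ℕ) : Bool := !presOK (maskP m) || Nat.beq m 0 || Nat.beq m 4095

theorem mask_check : (List.range 4096).all maskF = true := by
  rw [List.all_eq_true]
  intro m hm
  rw [List.mem_range] at hm
  have hc := List.all_eq_true.1 const_ok m (List.mem_range.2 hm)
  cases hp : presOK (maskP m)
  · simp [maskF, hp]
  rw [presOK_mask, List.all_eq_true] at hp
  simp only [constF, Bool.or_eq_true, List.any_eq_true, List.mem_range, Bool.not_eq_true',
    Nat.beq_eq] at hc
  rcases hc with (h | h) | ⟨k, hk, hbad⟩
  · simp [maskF, h]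
  · simp [maskF, h]
  exfalso
  have hlt : m &&& supp k < 4096 := lt_of_le_of_lt Nat.and_le_left hm
  have hr : ∀ j < 6, (List.range 4096).all (rowF j) = true := by
    intro j hj
    interval_cases j
    exacts [row0, row1, row2, row3, row4, row5]
  have h := List.all_eq_true.1 (hr k hk) _ (List.mem_range.2 hlt)
  have hok := hp k (List.mem_range.2 hk)
  rw [rowOK_and hk] at hok
  simp only [rowF, hok, Nat.and_assoc, Nat.and_self, Bool.not_true, Bool.or_false,
    Bool.or_eq_true, Bool.not_eq_true', Nat.beq_eq] at h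
  simp only [Bool.or_eq_false_iff] at hbad
  rcases h with (h | h) | h
  · rw [Nat.beq_refl] at h; exact absurd h (by decide)
  · rw [h] at hbad; exact absurd hbad.1 (by decide)
  · rw [h, Nat.beq_refl] at hbad; exact absurd hbad.2 (by decide)

theorem xor_one_half : ∀ t < 24, ∀ s < 24, s / 2 = t / 2 → s = t ∨ s = t ^^^ 1 := by decide +kernel

theorem pair_other : ∀ i < 12, (2 * i) ^^^ 1 = 2 * i + 1 ∧ (2 * i + 1) ^^^ 1 = 2 * i := by decide

theorem ker_cases {c : cover} (hc : c ∈ coverMap.ker) :
    Rep (c : Ambient).2 (maskP 0) ∨ Rep (c : Ambient).2 (maskP 4095) := by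
  obtain ⟨hcompat, hpres⟩ := c.2
  have h1 : ((c : Ambient).1 : Equiv.Perm GolayPt) = 1 := congrArg Subtype.val hc
  rw [h1] at hcompat
  set h := (c : Ambient).2 with hh
  have hpair : ∀ t < 24, idx (h (pt t)) = t ∨ idx (h (pt t)) = t ^^^ 1 := by
    intro t ht
    have e := congrArg idx (hcompat t ht)
    rw [Equiv.Perm.one_apply, idx_pt (dOf_lt t ht), idx_pt (dOf_lt _ (idx_lt _))] at e
    exact xor_one_half t ht _ (idx_lt _) (dOf_inj t ht _ (idx_lt _) e).symm
  let m := Nat.ofBits fun i : Fin 12 => decide (idx (h (pt (2 * (i : ℕ)))) ≠ 2 * (i : ℕ))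
  have hrep : Rep h (maskP m) := by
    intro t ht
    rw [maskP, getP_packL _ _ (by simpa using ht), List.getElem_map, List.getElem_range,
      Nat.testBit_ofBits_lt _ _ (show t / 2 < 12 by omega)]
    simp only [decide_eq_true_eq, ne_eq]
    obtain ⟨e1, e2⟩ := pair_other (t / 2) (by omega)
    have hne : idx (h (pt (2 * (t / 2)))) ≠ idx (h (pt (2 * (t / 2) + 1))) := fun e => by
      have := congrArg idx (h.injective (idx_injective e))
      rw [idx_pt (by omega), idx_pt (by omega)] at this
      omega
    rcases hpair (2 * (t / 2)) (by omega) with p0 | p0 <;>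
      rcases hpair (2 * (t / 2) + 1) (by omega) with p1 | p1 <;>
      rcases Nat.mod_two_eq_zero_or_one t with ht2 | ht2
    all_goals
      first
        | (exfalso; rw [p0, p1] at hne; omega)
        | (have hte : t = 2 * (t / 2) := by omega
           rw [← hte] at p0 p1 e1 e2 ⊢
           rw [p0]
           split <;> omega)
        | (have hto : t = 2 * (t / 2) + 1 := by omega
           rw [← hto] at p1 e1 e2
           rw [p1, p0]
           split <;> omega)
  have hm : m < 4096 := Nat.ofBits_lt_two_pow _
  have h2 := List.all_eq_true.1 mask_check m (List.mem_range.2 hm)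
  rw [maskF] at h2
  rw [(presOK_iff hrep).2 hpres] at h2
  simp only [Bool.not_true, Bool.false_or, Bool.or_eq_true, Nat.beq_eq] at h2
  rcases h2 with e | e
  · exact Or.inl (e ▸ hrep)
  · exact Or.inr (e ▸ hrep)

theorem natCard_ker_le : Nat.card coverMap.ker ≤ 2 := by
  classical
  let f : coverMap.ker → Bool := fun c => decide (Rep ((c : cover) : Ambient).2 (maskP 0))
  have hf : Function.Injective f := by
    intro a b e
    have e' : Rep ((a : cover) : Ambient).2 (maskP 0) ↔ Rep ((b : cover) : Ambient).2 (maskP 0) := by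
      simpa [f] using e
    have hab : ((a : cover) : Ambient).2 = ((b : cover) : Ambient).2 := by
      rcases ker_cases a.2 with ha | ha <;> rcases ker_cases b.2 with hb | hb
      · exact ha.inj hb
      · exact ha.inj (e'.1 ha)
      · exact (e'.2 hb).inj hb
      · exact ha.inj hb
    have h1 : ((a : cover) : Ambient).1 = ((b : cover) : Ambient).1 :=
      (MonoidHom.mem_ker.1 a.2).trans (MonoidHom.mem_ker.1 b.2).symm
    exact Subtype.ext (Subtype.ext (Prod.ext h1 hab))
  simpa using Nat.card_le_card_of_injective f hf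

theorem pair_check : (eqP (compP pairX.1 pairY.1) (compP pairY.1 pairX.1) &&
    !eqP (compP pairX.2 pairY.2) (compP pairY.2 pairX.2)) = true := by decide +kernel

open scoped commutatorElement in
/-- the cover is a stem extension with kernel of order two -/
theorem isStem_coverMap : IsStemExtension coverMap ∧ Nat.card coverMap.ker = 2 := by
  have h := gen_checks
  simp only [Bool.and_eq_true] at h
  obtain ⟨x, hx1, hx2⟩ := exists_pair h.1.2
  obtain ⟨y, hy1, hy2⟩ := exists_pair h.2
  have hp := pair_check
  simp only [Bool.and_eq_true, Bool.not_eq_true'] at hp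
  have hk : ⁅x, y⁆ ∈ coverMap.ker := by
    rw [MonoidHom.mem_ker, map_commutatorElement, commutatorElement_eq_one_iff_mul_comm]
    exact Subtype.ext ((eqP_iff (hx1.mul hy1) (hy1.mul hx1)).1 hp.1)
  have hne : ⁅x, y⁆ ≠ 1 := fun e => by
    have e' := congrArg (fun c : cover => (c : Ambient).2) (commutatorElement_eq_one_iff_mul_comm.1 e)
    rw [(eqP_iff (hx2.mul hy2) (hy2.mul hx2)).2 e'] at hp
    exact absurd hp.2 (by decide)
  have h2 : Nat.card coverMap.ker = 2 := by
    refine le_antisymm natCard_ker_le (Finite.one_lt_card_iff_nontrivial.2 ?_)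
    exact ⟨⟨⟨_, hk⟩, 1, fun e => hne (congrArg Subtype.val e)⟩⟩
  have hall : ∀ a ∈ coverMap.ker, a = 1 ∨ a = ⁅x, y⁆ := by
    intro a ha
    by_cases ha1 : a = 1
    · exact Or.inl ha1
    · obtain ⟨q, -, hq⟩ := (Nat.card_eq_two_iff' (1 : coverMap.ker)).1 h2
      refine Or.inr (congrArg Subtype.val ((hq ⟨a, ha⟩ fun e => ha1 (congrArg Subtype.val e)).trans
        (hq ⟨_, hk⟩ fun e => hne (congrArg Subtype.val e)).symm))
  refine ⟨⟨coverMap_surjective, fun a ha => ?_, fun a ha => ?_⟩, h2⟩
  · rw [Subgroup.mem_center_iff]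
    intro g
    rcases hall a ha with rfl | rfl
    · simp
    · rcases hall _ ((MonoidHom.normal_ker coverMap).conj_mem _ hk g) with e | e
      · exact absurd (conj_eq_one_iff.1 e) hne
      · exact mul_inv_eq_iff_eq_mul.1 e
  · rcases hall a ha with rfl | rfl
    · exact one_mem _
    · exact Subgroup.commutator_mem_commutator (Subgroup.mem_top x) (Subgroup.mem_top y)

theorem natCard_cover : Nat.card cover = 190080 := by
  have h := coverMap.ker.card_mul_index
  rw [Subgroup.index_ker, MonoidHom.range_eq_top.2 coverMap_surjective,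
    Nat.card_congr Subgroup.topEquiv.toEquiv, isStem_coverMap.2, natCard_stab] at h
  exact h.symm

end CfsgLib.KnownB.Mult.M12
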